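import Mathlib.RingTheory.AdjoinRoot
import Mathlib.RingTheory.Etale.Basic
import Mathlib.FieldTheory.Separable
import Groth.Agent.EtRamLib.Kummer.Monogenic

/-! # The algebras `R[T]/(T^d - a)` and their monomial coordinates -/

set_option autoImplicit false

universe u

open Polynomial

noncomputable section

namespace Groth.Agent.CycPic

/-- `R[T]/(T^d - a)`. -/
abbrev Kum (R : Type u) [CommRing R] (d : ℕ) (a : R) : Type u := AdjoinRoot (X ^ d - C a : R[X])

namespace Kum

variable {R S : Type u} [CommRing R] [CommRing S] {d : ℕ} {a : R}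

lemma monic (hd : 0 < d) (a : R) : (X ^ d - C a : R[X]).Monic := monic_X_pow_sub_C a hd.ne'

lemma root_pow (d : ℕ) (a : R) :
    (AdjoinRoot.root (X ^ d - C a : R[X])) ^ d = AdjoinRoot.of _ a := by
  have h := AdjoinRoot.eval₂_root (X ^ d - C a : R[X])
  simp only [eval₂_sub, eval₂_pow, eval₂_X, eval₂_C] at h
  exact sub_eq_zero.1 h

/-- The homomorphism with given values on scalars and on the root. -/
def lift (φ : R →+* S) (x : S) (h : x ^ d = φ a) : Kum R d a →+* S :=
  AdjoinRoot.lift φ x (by simp [eval₂_sub, eval₂_pow, eval₂_X, eval₂_C, h])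

@[simp] lemma lift_of (φ : R →+* S) (x : S) (h : x ^ d = φ a) (r : R) :
    lift φ x h (AdjoinRoot.of _ r) = φ r := AdjoinRoot.lift_of _

@[simp] lemma lift_root (φ : R →+* S) (x : S) (h : x ^ d = φ a) :
    lift φ x h (AdjoinRoot.root _) = x := AdjoinRoot.lift_root _

/-- The element with given coordinates. -/
def mk (a : R) (c : Fin d → R) : Kum R d a :=
  ∑ k, AdjoinRoot.of _ (c k) * AdjoinRoot.root _ ^ (k : ℕ)

/-- The coordinates. -/
def cf (hd : 0 < d) (p : Kum R d a) (k : Fin d) : R :=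
  (AdjoinRoot.modByMonicHom (monic hd a) p).coeff k

lemma natDegree_lt (hd : 0 < d) (p : Kum R d a) :
    (AdjoinRoot.modByMonicHom (monic hd a) p).natDegree < d := by
  rcases subsingleton_or_nontrivial R with hR | hR
  · rw [natDegree_of_subsingleton]; exact hd
  obtain ⟨q, rfl⟩ := AdjoinRoot.mk_surjective p
  rw [AdjoinRoot.modByMonicHom_mk]
  refine (natDegree_modByMonic_lt _ (monic hd a) ?_).trans_le (natDegree_X_pow_sub_C (r := a)).le
  intro h1
  have h2 := natDegree_X_pow_sub_C (R := R) (n := d) (r := a)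
  rw [h1, natDegree_one] at h2
  omega

lemma mk_cf (hd : 0 < d) (p : Kum R d a) : mk a (cf hd p) = p := by
  conv_rhs => rw [← AdjoinRoot.mk_leftInverse (monic hd a) p,
    as_sum_range' _ d (natDegree_lt hd p), map_sum]
  rw [Finset.sum_range (fun k => AdjoinRoot.mk (X ^ d - C a) (monomial k _))]
  refine Finset.sum_congr rfl fun k _ => ?_
  rw [← C_mul_X_pow_eq_monomial, map_mul, map_pow, AdjoinRoot.mk_C, AdjoinRoot.mk_X]
  rfl

lemma cf_mk (hd : 0 < d) (c : Fin d → R) (k : Fin d) : cf hd (mk a c) k = c k := by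
  rcases subsingleton_or_nontrivial R with hR | hR
  · exact Subsingleton.elim _ _
  have h : mk a c = AdjoinRoot.mk _ (∑ i : Fin d, monomial (i : ℕ) (c i)) := by
    rw [map_sum]
    refine Finset.sum_congr rfl fun i _ => ?_
    rw [← C_mul_X_pow_eq_monomial, map_mul, map_pow, AdjoinRoot.mk_C, AdjoinRoot.mk_X]
  rw [cf, h, AdjoinRoot.modByMonicHom_mk, (modByMonic_eq_self_iff (monic hd a)).2 ?_]
  · rw [finset_sum_coeff, Finset.sum_eq_single k]
    · rw [coeff_monomial, if_pos rfl]
    · intro i _ hi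
      rw [coeff_monomial, if_neg fun h => hi (Fin.ext h)]
    · simp
  · rw [degree_X_pow_sub_C hd]
    refine (degree_sum_le _ _).trans_lt ((Finset.sup_lt_iff (WithBot.bot_lt_coe d)).2 fun i _ => ?_)
    exact (degree_monomial_le _ _).trans_lt (WithBot.coe_lt_coe.2 i.2)

lemma ext (hd : 0 < d) {p q : Kum R d a} (h : ∀ k, cf hd p k = cf hd q k) : p = q := by
  rw [← mk_cf hd p, ← mk_cf hd q, funext h]

lemma of_mul_mk (r : R) (c : Fin d → R) : AdjoinRoot.of _ r * mk a c = mk a (fun k => r * c k) := by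
  rw [mk, mk, Finset.mul_sum]
  exact Finset.sum_congr rfl fun k _ => by rw [map_mul, mul_assoc]

lemma cf_of_mul (hd : 0 < d) (r : R) (p : Kum R d a) (k : Fin d) :
    cf hd (AdjoinRoot.of _ r * p) k = r * cf hd p k := by
  conv_lhs => rw [← mk_cf hd p, of_mul_mk, cf_mk]

lemma lift_mk {b : S} (φ : R →+* S) (r : S) (h : (AdjoinRoot.of (X ^ d - C b) r * AdjoinRoot.root _) ^ d =
      (AdjoinRoot.of (X ^ d - C b)).comp φ a) (c : Fin d → R) :
    lift ((AdjoinRoot.of (X ^ d - C b)).comp φ) _ h (mk a c) = mk b (fun k => φ (c k) * r ^ (k : ℕ)) := by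
  rw [mk, mk, map_sum]
  refine Finset.sum_congr rfl fun k _ => ?_
  rw [map_mul, map_pow, lift_of, lift_root, mul_pow, map_mul, map_pow, RingHom.comp_apply, mul_assoc]

lemma finite (hd : 0 < d) (a : R) : Module.Finite R (Kum R d a) := (monic hd a).finite_adjoinRoot

lemma free (hd : 0 < d) (a : R) : Module.Free R (Kum R d a) := (monic hd a).free_adjoinRoot

lemma rankAtStalk_eq (hd : 0 < d) (a : R) (x : PrimeSpectrum R) :
    Module.rankAtStalk (R := R) (Kum R d a) x = d := by
  haveI := free hd a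
  haveI := x.nontrivial
  rw [Module.rankAtStalk_eq_finrank_of_free, Pi.natCast_apply,
    (AdjoinRoot.powerBasis' (monic hd a)).finrank, AdjoinRoot.powerBasis'_dim, natDegree_X_pow_sub_C]
  rfl

lemma etale (hd : 0 < d) (ha : IsUnit a) (hdu : IsUnit ((d : ℕ) : R)) : Algebra.Etale R (Kum R d a) :=
  EtRamLib.Kummer.etale_adjoinRoot (monic hd a) (by
    have := separable_X_pow_sub_C_unit ha.unit hdu
    simpa using this)

end Kum

end Groth.Agent.CycPic
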